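import Cfsg.Agent.JT.B3a
import Cfsg.Agent.JT.B4
import Cfsg.Agent.MQ.B5c

/-! The list `(-2584, -969, 816, 2736)` with `|V| = 3` or `18` is impossible. -/

set_option autoImplicit false
set_option linter.unusedSectionVars false

namespace JT
open Cfsg H8 H2 Subgroup MQ

variable {G : Type*} [Group G] [Fintype G] {r x y z t : G}

theorem exV {p : ℕ} [hp : Fact p.Prime] (h : DefOne p x) (hz' : ¬ p ∣ orderOf z)
    (hd : p ∣ Nat.card (Cx z)) : ∃ g : G, g⁻¹ * z * g ∈ h.V := by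
  obtain ⟨y, hy⟩ := exists_prime_orderOf_dvd_card' (G := Cx z) p hd
  obtain ⟨P, hP⟩ := h.exists_sylow
  obtain ⟨g, hg⟩ := exists_conj_mem_sylow P (y := y) (k := 1) (by rw [orderOf_coe, hy, pow_one])
  rw [hP, h.mem_zpowers_iff] at hg
  obtain ⟨i, hi⟩ := hg
  have hi0 : i ≠ 0 := by
    rintro rfl
    rw [xp_zero] at hi
    have : y = 1 := Subtype.ext (by simpa [mul_assoc, inv_mul_eq_one] using hi)
    rw [this, orderOf_one] at hy
    exact hp.out.one_lt.ne hy
  have h1 : Commute (g⁻¹ * z * g) (xp x i) := by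
    rw [← hi]
    show _ = _
    calc g⁻¹ * z * g * (g⁻¹ * y * g) = g⁻¹ * (z * y) * g := by group
      _ = g⁻¹ * (y * z) * g := by rw [mem_Cx.1 y.2]
      _ = _ := by group
  exact ⟨g, h.mem_V'.2 ⟨mem_Cx.2 (by
    have := commute_xp h1 i⁻¹
    rwa [xp_xp h.pow_p, inv_mul_cancel₀ hi0, xp_one] at this), by
    have := MulEquiv.orderOf_eq (MulAut.conj g⁻¹) z
    rw [MulAut.conj_apply, inv_inv] at this
    rwa [this]⟩⟩

theorem mem_rng {N : ℕ} {s o e a : ℤ} (hs : 0 < s) (h1 : s ∣ a - e) (h2 : -(s * o) + e ≤ a)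
    (h3 : a < s * (N - o) + e) : a ∈ (List.range N).map (fun i : ℕ => s * ((i : ℤ) - o) + e) := by
  obtain ⟨k, hk⟩ := h1
  have a1 : 0 ≤ k + o := by nlinarith
  have a2 : k + o < N := by nlinarith
  refine List.mem_map.2 ⟨(k + o).toNat, List.mem_range.2 (by omega), ?_⟩
  rw [Int.toNat_of_nonneg a1]; linear_combination -hk

theorem mem_rng0 {N : ℕ} {s o a : ℤ} (hs : 0 < s) (h1 : s ∣ a) (h2 : -(s * o) ≤ a)
    (h3 : a < s * (N - o)) : a ∈ (List.range N).map (fun i : ℕ => s * ((i : ℤ) - o)) := by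
  simpa using mem_rng (N := N) (o := o) (e := 0) hs (by simpa) (by simpa) (by simpa)

variable [IsSimpleGroup G] {h : DefOne 5 r}

/-- the values of the block on an involution -/
structure Cv (F : Full h 4) (z : G) (a b c : ℤ) : Prop where
  v0 : (F.c 0).1 z = a
  v1 : (F.c 1).1 z = (1 - a + b + c : ℤ)
  v2 : (F.c 2).1 z = b
  v3 : (F.c 3).1 z = c
  sq : z ^ 2 = 1
  m0 : 4 ∣ a
  m2 : 4 ∣ b
  m3 : 4 ∣ c
  nm : a * a + b * b + c * c + (1 - a + b + c) * (1 - a + b + c) < Nat.card (Cx z)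

namespace Loc
variable (L : Loc x y) (F : Full h 4)
  (hF : ∀ j, F.s j * deg (F.c j) = ![-2584, -969, 816, 2736] j)
include hF

theorem dB : (F.s 0 = -1 ∧ deg (F.c 0) = 2584) ∧ (F.s 1 = -1 ∧ deg (F.c 1) = 969) ∧
    (F.s 2 = 1 ∧ deg (F.c 2) = 816) ∧ F.s 3 = 1 ∧ deg (F.c 3) = 2736 := by
  have a0 : F.s 0 * deg (F.c 0) = -2584 := hF 0
  have a1 : F.s 1 * deg (F.c 1) = -969 := hF 1
  have a2 : F.s 2 * deg (F.c 2) = 816 := hF 2
  have a3 : F.s 3 * deg (F.c 3) = 2736 := hF 3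
  refine ⟨?_, ?_, ?_, ?_⟩
  · rcases F.s_eq 0 with e | e <;> rw [e] at a0 ⊢ <;> omega
  · rcases F.s_eq 1 with e | e <;> rw [e] at a1 ⊢ <;> omega
  · rcases F.s_eq 2 with e | e <;> rw [e] at a2 ⊢ <;> omega
  · rcases F.s_eq 3 with e | e <;> rw [e] at a3 ⊢ <;> omega

include L

theorem cv (hz : orderOf z = 2) : ∃ a b c, Cv F z a b c := by
  obtain ⟨⟨s0, d0⟩, ⟨s1, d1⟩, ⟨s2, d2⟩, s3, d3⟩ := dB F hF
  have z2 : z ^ 2 = 1 := hz ▸ pow_orderOf_eq_one z
  choose a a1 a2 using fun j => inv_val L.perf (F.c j) z2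
  have l := Full.lin' F (g := z) (by rw [hz]; decide) a1
  have q := MQ.Full.sq_le F a1
  rw [Fin.sum_univ_four] at l q
  rw [s0, s1, s2, s3] at l
  have e : a 1 = 1 - a 0 + a 2 + a 3 := by omega
  have b0 := a2 0
  have b2 := a2 2
  have b3 := a2 3
  rw [d0] at b0; rw [d2] at b2; rw [d3] at b3
  exact ⟨a 0, a 2, a 3, a1 0, e ▸ a1 1, a1 2, a1 3, z2, by omega, by omega, by omega, by
    rw [← e]; omega⟩

theorem pairB {a b c a' b' c' : ℤ} (u : Cv F z a b c) (w : Cv F t a' b' c') :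
    (kk h z * Nat.card (Cx z) : ℤ) * (kk h t * Nat.card (Cx t)) =
      216 * Nat.card h.V * PB a b c a' b' c' := by
  obtain ⟨⟨s0, d0⟩, ⟨s1, d1⟩, ⟨s2, d2⟩, s3, d3⟩ := dB F hF
  have p := Full.prs_eq F z t
  rw [prs_kk h (by norm_num) u.sq w.sq, Fin.sum_univ_four, s0, s1, s2, s3, d0, d1, d2, d3, u.v0, u.v1,
    u.v2, u.v3, w.v0, w.v1, w.v2, w.v3, L.hN] at p
  have c0 := (Cx z).card_mul_index
  have c1 := (Cx t).card_mul_index
  rw [L.hN] at c0 c1
  generalize kk h z = k at *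
  generalize kk h t = k' at *
  generalize (Cx z).index = I at *
  generalize (Cx t).index = J at *
  generalize Nat.card (Cx z) = n at *
  generalize Nat.card (Cx t) = n' at *
  generalize Nat.card h.V = v at *
  have e0 : (n : ℂ) * I = 50232960 := by exact_mod_cast c0
  have e1 : (n' : ℂ) * J = 50232960 := by exact_mod_cast c1
  have : ((k * n) * (k' * n') : ℂ) = 216 * v * (PB a b c a' b' c' : ℤ) := by
    unfold PB
    push_cast at p ⊢
    have h1 := congrArg (fun u : ℂ => n * n' * u) p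
    simp only [← mul_assoc, mul_div_assoc] at h1
    have h2 : (n : ℂ) * n' * I * J = 50232960 * 50232960 := by
      linear_combination (n' * J : ℂ) * e0 + 50232960 * e1
    rw [h2] at h1
    linear_combination (1 / 5 : ℂ) * h1
  exact_mod_cast this

theorem zB (hv : Nat.card h.V ≤ 18) (hv' : Nat.card h.V ∣ 18) : ∃ z a b c, Cv F z a b c ∧
    (Nat.card h.V = 18 → kk h z = 0 ∧
      (a, b, c) ∈ [((-56 : ℤ), (-64 : ℤ), (96 : ℤ)), (104, -64, 96), (-296, -144, -144)]) ∧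
    (Nat.card h.V = 3 → ¬ kk h z ≤ 1) := by
  obtain ⟨⟨s0, d0⟩, ⟨s1, d1⟩, ⟨s2, d2⟩, s3, d3⟩ := dB F hF
  obtain ⟨z, hz, z2⟩ := exists_central_of_prime (G := G) 2 (by rw [L.hN]; norm_num)
  obtain ⟨a, b, c, u⟩ := L.cv F hF hz
  have z1 : z ≠ 1 := by rintro rfl; simp at hz
  have n17 := L.hy.not_dvd_card_Cx L.vy z1 (by rw [hz]; decide)
  have n19 := L.hx.not_dvd_card_Cx L.vx z1 (by rw [hz]; decide)
  have c0 := (Cx z).card_mul_index
  rw [L.hN] at c0
  obtain ⟨m, hm⟩ : 128 ∣ Nat.card (Cx z) := Nat.Coprime.dvd_of_dvd_mul_right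
    (((Nat.Prime.coprime_iff_not_dvd Nat.prime_two).2 z2).pow_left 7) (by rw [c0]; norm_num)
  have c1 : m * (Cx z).index = 392445 := by rw [hm, mul_assoc] at c0; omega
  have c2 : m ∣ 3 ^ 5 * 5 := by
    rw [hm] at n17 n19
    refine Nat.Coprime.dvd_of_dvd_mul_right (k := m) (n := 17 * 19) (Nat.Coprime.mul_right
      ((Nat.Prime.coprime_iff_not_dvd (by norm_num)).2 fun e => n17 (e.mul_left _)).symm
      ((Nat.Prime.coprime_iff_not_dvd (by norm_num)).2 fun e => n19 (e.mul_left _)).symm) ⟨_, c1.symm⟩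
  have c3 : (m : ℤ) ∈ [(1 : ℤ), 3, 9, 27, 81, 243, 5, 15, 45, 135, 405, 1215] := by
    have : ∀ m ∈ Nat.divisors (3 ^ 5 * 5), (m : ℤ) ∈ [(1 : ℤ), 3, 9, 27, 81, 243, 5, 15, 45, 135, 405, 1215] := by
      decide +kernel
    exact this m (Nat.mem_divisors.2 ⟨c2, by norm_num⟩)
  have m0 : 0 < m := Nat.pos_of_dvd_of_pos c2 (by norm_num)
  have m1 : m ≤ 1215 := Nat.le_of_dvd (by norm_num) c2
  have c4 : ((Cx z).index : ℤ) = 392445 / m := by
    rw [show (392445 : ℤ) = m * (Cx z).index by exact_mod_cast c1.symm,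
      Int.mul_ediv_cancel_left _ (by exact_mod_cast m0.ne')]
  have od : IsCoprime (16 : ℤ) (Cx z).index := by
    have := ((Nat.Prime.coprime_iff_not_dvd Nat.prime_two).2 z2).pow_left 4
    exact_mod_cast Nat.isCoprime_iff_coprime.2 this
  have e0 := irr_deg_dvd_index_mul _ u.v0
  have e2 := irr_deg_dvd_index_mul _ u.v2
  have e3 := irr_deg_dvd_index_mul _ u.v3
  rw [d0] at e0; rw [d2] at e2; rw [d3] at e3
  have f0 : (8 : ℤ) ∣ a := (od.of_isCoprime_of_dvd_left (by norm_num)).dvd_of_dvd_mul_left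
    (dvd_trans (by norm_num) e0)
  have f2 : (16 : ℤ) ∣ b := od.dvd_of_dvd_mul_left (dvd_trans (by norm_num) e2)
  have f3 : (16 : ℤ) ∣ c := od.dvd_of_dvd_mul_left (dvd_trans (by norm_num) e3)
  have nm := u.nm
  have p := L.pairB F hF u u
  rw [hm] at nm p
  push_cast at nm p
  have g5 : (m : ℤ) % 5 = 0 → 2 ∣ Nat.card h.V ∧ (a + 1) % 5 = 0 ∧ (b - 1) % 5 = 0 ∧ (c - 1) % 5 = 0 :=
    fun e => by
      obtain ⟨g, hg⟩ := exV h (z := z) (by rw [hz]; decide) (by rw [hm]; omega)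
      have cj : IsConj z (g⁻¹ * z * g) := isConj_iff.2 ⟨g⁻¹, by rw [inv_inv]⟩
      have k0 := Full.val_mod F 0 hg ((val_conj _ cj).trans u.v0)
      have k2 := Full.val_mod F 2 hg ((val_conj _ cj).trans u.v2)
      have k3 := Full.val_mod F 3 hg ((val_conj _ cj).trans u.v3)
      rw [s0] at k0; rw [s2] at k2; rw [s3] at k3
      refine ⟨?_, by omega, by omega, by omega⟩
      have := MulEquiv.orderOf_eq (MulAut.conj g⁻¹) z
      rw [MulAut.conj_apply, inv_inv, hz] at this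
      rw [← this, ← Nat.card_zpowers]; exact card_dvd_of_le (zpowers_le.2 hg)
  have q0 := mul_self_nonneg a
  have q1 := mul_self_nonneg b
  have q2 := mul_self_nonneg c
  have q3 := mul_self_nonneg (1 - a + b + c)
  have bd : ∀ u : ℤ, u * u < 155520 → -395 < u ∧ u < 395 := fun u hu => ⟨by nlinarith, by nlinarith⟩
  have r0 := bd a (by omega)
  have r1 := bd b (by omega)
  have r2 := bd c (by omega)
  obtain ⟨w, hw⟩ := hv'
  have key := zB_chk _ c3 a (mem_rng0 (by norm_num) f0 (by omega) (by omega)) (by omega)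
    (fun e => (g5 e).2.1) b (mem_rng0 (by norm_num) f2 (by omega) (by omega)) (by omega)
    (fun e => (g5 e).2.2.1) (c4 ▸ Int.emod_eq_zero_of_dvd e2) c
    (mem_rng0 (by norm_num) f3 (by omega) (by omega)) nm (fun e => (g5 e).2.2.2)
    (Int.emod_eq_zero_of_dvd ⟨w * (kk h z * kk h z), by
      have : (18 : ℤ) = Nat.card h.V * w := by exact_mod_cast hw
      linear_combination 216 * PB a b c a b c * this - w * p⟩)
  refine ⟨z, a, b, c, u, fun e => key.1 _ (List.mem_range.2 (Nat.lt_succ_of_le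
    ((kk_le h z).trans hv))) (by rw [p, e]; norm_num), fun e k => key.2 (fun e' => ?_) _
    (List.mem_range.2 (Nat.lt_succ_of_le k)) (by rw [p, e]; norm_num)⟩
  have := (g5 e').1
  omega

theorem not_B3 (he : Nat.card h.H = 4) (hv : Nat.card h.V = 3) : False := by
  obtain ⟨z, a, b, c, u, -, k⟩ := L.zB F hF (by omega) (by rw [hv]; norm_num)
  exact k hv (kk_le_one h he hv u.sq)

theorem not_B18 (hv : Nat.card h.V = 18) : False := by
  obtain ⟨⟨s0, d0⟩, ⟨s1, d1⟩, ⟨s2, d2⟩, s3, d3⟩ := dB F hF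
  obtain ⟨z, a, b, c, u, k, -⟩ := L.zB F hF hv.le hv.dvd
  obtain ⟨k0, k1⟩ := k hv
  obtain ⟨t, ht⟩ := exists_prime_orderOf_dvd_card' (G := Nx y) 2 (by
    rw [L.hy.card_Nx, L.ey]; exact Dvd.dvd.mul_left (by norm_num) _)
  have ht' : orderOf t.1 = 2 := by rw [orderOf_coe, ht]
  have tc : t.1 ∉ Cx y := fun e => by
    have := card_dvd_of_le (zpowers_le.2 e)
    rw [Nat.card_zpowers, ht', L.hy.card_Cx, L.vy, card_bot] at this
    omega
  obtain ⟨a', b', c', w⟩ := L.cv F hF ht'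
  obtain ⟨T⟩ := exists_gen L.hy (n := 7) L.ey
  have zero : ∀ χ : IrrCharacter G, deg χ % 17 = 0 → ∀ i : ZMod 17, i ≠ 0 →
      χ.1 (xp y i) = (0 : ℤ) := fun χ hχ i hi => by
    refine (T.other' L.vy (fun e => ?_) (fun j e => ?_) (fun e => ?_) hi).trans (by simp)
    · rw [e, deg_one1] at hχ; omega
    · have := T.mod j
      rw [e] at this
      rcases T.s_eq j with e | e <;> rw [e] at this <;> omega
    · have := T.mod0
      rw [← T.deg_X e] at this
      rcases T.s0_eq with e | e <;> rw [e] at this <;> omega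
  have b0 := abs_le_of_coset L.hy _ (zero _ (by rw [d0])) (m := 152) (by rw [d0]; norm_num) t.2 tc w.v0
  have b1 := abs_le_of_coset L.hy _ (zero _ (by rw [d1])) (m := 57) (by rw [d1]; norm_num) t.2 tc w.v1
  have b2 := abs_le_of_coset L.hy _ (zero _ (by rw [d2])) (m := 48) (by rw [d2]; norm_num) t.2 tc w.v2
  have p1 := L.pairB F hF u w
  have p2 := L.pairB F hF w w
  rw [k0, hv] at p1
  rw [hv] at p2
  have m0 := w.m0
  have m2 := w.m2
  have m3 := w.m3
  rw [abs_le] at b0 b1 b2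
  norm_num at b0 b1 b2
  have := tB_chk _ k1 a' (mem_rng0 (by norm_num) m0 (by omega) (by omega)) b'
    (mem_rng0 (by norm_num) m2 (by omega) (by omega)) (1 - a' + b' + c')
    (mem_rng (by norm_num) (by omega) (by omega) (by omega))
  rw [show 1 - a' + b' + c' - 1 + a' - b' = c' by ring] at this
  refine this (by simp only; push_cast at p1; omega) ?_
  have e : 3888 * PB a' b' c' a' b' c' = (kk h t.1 * Nat.card (Cx t.1) : ℤ) *
    (kk h t.1 * Nat.card (Cx t.1)) := by rw [p2]; norm_num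
  rw [e, Int.sqrt_eq, Int.natAbs_mul_self']

end Loc
end JT
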