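import Cfsg.Agent.JT.K3

/-! Numerical checks for the list `(-2584, -969, 816, 2736)`. -/

set_option autoImplicit false

namespace JT

/-- the pair form -/
def PB (a0 a2 a3 b0 b2 b3 : ℤ) : ℤ :=
  46512 - 18 * a0 * b0 - 48 * (1 - a0 + a2 + a3) * (1 - b0 + b2 + b3) + 57 * a2 * b2 + 17 * a3 * b3

theorem zB_chk : ∀ m ∈ [(1 : ℤ), 3, 9, 27, 81, 243, 5, 15, 45, 135, 405, 1215],
    ∀ a ∈ (List.range 99).map (fun i : ℕ => 8 * ((i : ℤ) - 49)), a * a < 128 * m →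
    (m % 5 = 0 → (a + 1) % 5 = 0) →
    ∀ b ∈ (List.range 49).map (fun i : ℕ => 16 * ((i : ℤ) - 24)), a * a + b * b < 128 * m →
    (m % 5 = 0 → (b - 1) % 5 = 0) → 392445 / m * b % 816 = 0 →
    ∀ c ∈ (List.range 49).map (fun i : ℕ => 16 * ((i : ℤ) - 24)),
    a * a + b * b + c * c + (1 - a + b + c) * (1 - a + b + c) < 128 * m →
    (m % 5 = 0 → (c - 1) % 5 = 0) → 3888 * PB a b c a b c % (128 * m * (128 * m)) = 0 →
    (∀ k ∈ List.range 19, (k * (128 * m)) * (k * (128 * m)) = 3888 * PB a b c a b c →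
      k = 0 ∧ (a, b, c) ∈ [(-56, -64, 96), (104, -64, 96), (-296, -144, -144)]) ∧
    (m % 5 ≠ 0 → ∀ k ∈ List.range 2, (k * (128 * m)) * (k * (128 * m)) ≠ 648 * PB a b c a b c) := by
  decide +kernel

theorem tB_chk : ∀ t ∈ [((-56 : ℤ), (-64 : ℤ), (96 : ℤ)), (104, -64, 96), (-296, -144, -144)],
    ∀ a ∈ (List.range 77).map (fun i : ℕ => 4 * ((i : ℤ) - 38)),
    ∀ b ∈ (List.range 25).map (fun i : ℕ => 4 * ((i : ℤ) - 12)),
    ∀ e ∈ (List.range 29).map (fun i : ℕ => 4 * ((i : ℤ) - 14) + 1),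
    PB t.1 t.2.1 t.2.2 a b (e - 1 + a - b) = 0 →
    Int.sqrt (3888 * PB a b (e - 1 + a - b) a b (e - 1 + a - b)) *
      Int.sqrt (3888 * PB a b (e - 1 + a - b) a b (e - 1 + a - b)) ≠
      3888 * PB a b (e - 1 + a - b) a b (e - 1 + a - b) := by
  decide +kernel

end JT
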