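import Cfsg.Agent.JT.End0a

/-! The group-theoretic endgame for a group of order 50232960. -/

set_option autoImplicit false
set_option linter.unusedSectionVars false
set_option linter.unusedVariables false

namespace JT

open Subgroup H9

variable {G : Type*} [Group G] [Finite G] {z w t y : G} {E F : Subgroup G}

theorem a5_pair : ∀ t : alternatingGroup (Fin 5), t ^ 4 = 1 → t = 1 ∨
    ∃ g : alternatingGroup (Fin 5), (t * (g * t * g⁻¹)) ^ 5 = 1 ∧ t * (g * t * g⁻¹) ≠ 1 := by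
  decide +kernel

theorem a5_exp : ∀ t : alternatingGroup (Fin 5), t ^ 60 = 1 := fun t => by
  rw [← GW.card_A5, pow_card_eq_one']

/-- the data at a `2`-central involution -/
structure Dt (z : G) (E : Subgroup G) : Prop where
  ord : orderOf z = 2
  cc : Nat.card (Cen z) = 1920
  le : E ≤ Cen z
  nor : Cen z ≤ normalizer (E : Set G)
  mem : z ∈ E
  card : Nat.card E = 32
  fix : ∀ y ∈ Cen z, orderOf y = 5 → E ⊓ Cen y = zpowers z
  hom : ∃ f : Cen z →* alternatingGroup (Fin 5), Function.Surjective f ∧ f.ker = E.subgroupOf (Cen z)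

theorem ex_dt (h5 : ∀ y : G, orderOf y = 5 → Nat.card (Cen y) = 30 ∧ Nat.card (Nor y) = 60)
    (hz : orderOf z = 2) (cc : Nat.card (Cen z) = 1920) : ∃ E, Dt z E := by
  have zc : (⟨z, self_mem_Cen z⟩ : Cen z) ∈ center (Cen z) :=
    mem_center_iff.2 fun g => Subtype.ext (mem_Cen.1 g.2).symm
  have hz' : orderOf (⟨z, self_mem_Cen z⟩ : Cen z) = 2 := by rw [← orderOf_coe]; exact hz
  have k : ∀ y : Cen z, orderOf y = 5 → Nat.card (Cen y) = 10 ∧ Nat.card (Nor y) = 20 :=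
    fun y hy => by
      obtain ⟨h1, h2⟩ := h5 y.1 (by rw [orderOf_coe, hy])
      refine loc5 cc hz' zc hy ?_ ?_
      · rw [← h1, ← card_map_of_injective (Cen z).subtype_injective]
        refine card_dvd_of_le ?_
        rintro _ ⟨g, hg, rfl⟩; exact mem_Cen.2 (congrArg Subtype.val (mem_Cen.1 hg))
      · rw [← h2, ← card_map_of_injective (Cen z).subtype_injective]
        refine card_dvd_of_le ?_
        rintro _ ⟨g, hg, rfl⟩
        obtain ⟨i, hi⟩ := mem_Nor.1 hg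
        exact mem_Nor.2 ⟨i, congrArg Subtype.val hi⟩
  obtain ⟨E, hE, h1, h2, ⟨e⟩⟩ := struct cc hz' zc k
  have c32 : Nat.card (E.map (Cen z).subtype) = 32 := by
    rw [card_map_of_injective (Cen z).subtype_injective, h1]
  refine ⟨E.map (Cen z).subtype, hz, cc, map_subtype_le _, fun g hg => ?_, ⟨_, h2, rfl⟩, c32,
    fun y hy h => ?_, e.toMonoidHom.comp (QuotientGroup.mk' E),
    e.surjective.comp (QuotientGroup.mk'_surjective E), ?_⟩
  · exact le_normalizer_map (Cen z).subtype ⟨⟨g, hg⟩, le_normalizer_of_normal (mem_top _), rfl⟩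
  · refine (eq_of_le_of_card_ge ((zpowers_le (g := z)).2
      (mem_inf.2 ⟨mem_map_of_mem _ h2, mem_Cen_comm.1 hy⟩)) ?_).symm
    have a1 : Nat.card (E.map (Cen z).subtype ⊓ Cen y : Subgroup G) ∣ 10 := by
      rw [← (k ⟨y, hy⟩ (by rw [← orderOf_coe]; exact h)).1,
        ← card_map_of_injective (Cen z).subtype_injective]
      refine card_dvd_of_le ?_
      rintro _ ⟨⟨g, hg, rfl⟩, h⟩; exact ⟨g, mem_Cen.2 (Subtype.ext (mem_Cen.1 h)), rfl⟩
    have a2 := card_dvd_of_le (inf_le_left : E.map (Cen z).subtype ⊓ Cen y ≤ _)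
    rw [c32] at a2
    rw [Nat.card_zpowers, hz]
    exact Nat.le_of_dvd two_pos (by simpa using Nat.dvd_gcd a1 a2)
  · rw [← MonoidHom.comap_ker, (MonoidHom.ker_eq_bot_iff _).2 e.injective, MonoidHom.comap_bot,
      QuotientGroup.ker_mk', subgroupOf, comap_map_eq_self_of_injective (Cen z).subtype_injective]

theorem card_inf_ge {A B : Subgroup G} (hA : A ≤ E) (hB : B ≤ E) :
    Nat.card A * Nat.card B ≤ Nat.card (A ⊓ B : Subgroup G) * Nat.card E := by
  rw [← H5.card_inf_mul_relIndex B A, inf_comm B A, ← H5.card_mul_relIndex hB, mul_assoc, mul_comm _ (Nat.card B)]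
  exact Nat.mul_le_mul_left _ (Nat.mul_le_mul_left _
    (relIndex_le_of_le_right hA index_ne_zero_of_finite))

theorem ord2 (h : w * w = 1) (h1 : w ≠ 1) : orderOf w = 2 :=
  orderOf_eq_prime (by rwa [pow_two]) h1

theorem mem_zp2 (hz : orderOf z = 2) : w ∈ zpowers z ↔ w = 1 ∨ w = z := by
  classical
  refine ⟨fun h => ?_, fun h => h.elim (fun e => e ▸ one_mem _) fun e => e ▸ mem_zpowers _⟩
  rcases (mem_zpowers_iff_mem_range_orderOf.1 h |> Finset.mem_image.1) with ⟨i, hi, e⟩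
  rw [hz, Finset.mem_range] at hi
  interval_cases i
  · exact .inl (by simpa using e.symm)
  · exact .inr (by simpa using e.symm)

namespace Dt

theorem ex5 (d : Dt z E) : ∃ y ∈ Cen z, orderOf y = 5 := by
  obtain ⟨y, hy⟩ := exists_prime_orderOf_dvd_card' (G := Cen z) 5 (by rw [d.cc]; norm_num)
  exact ⟨y, y.2, by rw [orderOf_coe, hy]⟩

theorem small (d : Dt z E) (ht : t ∈ Cen z) (h2 : t ^ 128 = 1) (tE : t ∉ E) :
    Nat.card (E ⊓ Cen t : Subgroup G) ≤ 8 := by
  obtain ⟨f, sf, hk⟩ := d.hom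
  have h4 : f ⟨t, ht⟩ ^ 4 = 1 := by
    have : f ⟨t, ht⟩ ^ 128 = 1 := by rw [← map_pow, show (⟨t, ht⟩ : Cen z) ^ 128 = 1 from Subtype.ext h2, map_one]
    exact pow_gcd_eq_one.2 ⟨this, a5_exp _⟩
  rcases a5_pair _ h4 with h | ⟨g, h, h1⟩
  · exact absurd (mem_subgroupOf.1 (hk.le h)) tE
  obtain ⟨g, rfl⟩ := sf g
  rw [← map_inv, ← map_mul, ← map_mul, ← map_mul] at h h1
  have a1 := (orderOf_eq_prime h h1) ▸ orderOf_map_dvd f _
  rw [← orderOf_coe] at a1
  change 5 ∣ orderOf (t * ((g : G) * t * (g : G)⁻¹)) at a1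
  have a2 := orderOf_pow_orderOf_div (orderOf_pos _).ne' a1
  have a3 := d.fix _ (pow_mem (mul_mem ht (mul_mem (mul_mem g.2 ht) (inv_mem g.2))) _) a2
  have a4 : (E ⊓ Cen t) ⊓ (E ⊓ Cen ((g : G) * t * (g : G)⁻¹)) ≤ zpowers z := fun x hx =>
    a3 ▸ ⟨hx.1.1, Cen_le_Cen_pow _ _ (mem_Cen_comm.1 (mul_mem (mem_Cen_comm.1 hx.1.2)
      (mem_Cen_comm.1 hx.2.2)))⟩
  have a5 : Nat.card (E ⊓ Cen ((g : G) * t * (g : G)⁻¹) : Subgroup G) = Nat.card (E ⊓ Cen t : Subgroup G) := by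
    rw [← H4.card_conjS (g : G) (E ⊓ Cen t), Cen_conj]
    unfold H4.conjS
    rw [map_inf _ _ _ (MulAut.conj (g : G)).injective]
    exact congrArg (fun K => Nat.card (K ⊓ _ : Subgroup G)) (H4.mem_normalizer_iff_conjS.1 (d.nor g.2)).symm
  have a6 := card_inf_ge (E := E) (A := E ⊓ Cen t) (B := E ⊓ Cen ((g : G) * t * (g : G)⁻¹)) inf_le_left inf_le_left
  have a7 := card_le_of_le a4
  rw [Nat.card_zpowers, d.ord] at a7
  rw [a5, d.card] at a6
  nlinarith

theorem norE (d : Dt z E) (hG : Nat.card G = 50232960) : normalizer (E : Set G) ≤ Cen z := by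
  set N := normalizer (E : Set G)
  obtain ⟨y, hy, y5⟩ := d.ex5
  let z' : N := ⟨z, d.nor (self_mem_Cen z)⟩
  have m : ∀ g : N, IsConj z' g → g.1 ∈ E := fun g h => by
    obtain ⟨c, rfl⟩ := isConj_iff.1 h
    exact (mem_normalizer_iff.1 c.2 z).1 d.mem
  have a1 := card_modEq_card_inter_Cen (p := 5) (k := 1) (fun g : N => IsConj z' g) ⟨y, d.nor hy⟩
    (Subtype.ext (by rw [pow_one, ← y5]; exact pow_orderOf_eq_one y))
    fun g hg => hg.trans (isConj_iff.2 ⟨_, rfl⟩)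
  have a2 : Nat.card {g : N // IsConj z' g ∧ g ∈ Cen (⟨y, d.nor hy⟩ : N)} = 1 := by
    refine Nat.card_eq_one_iff_exists.2 ⟨⟨z', IsConj.refl _, mem_Cen.2 (Subtype.ext
      (mem_Cen.1 hy).symm)⟩, fun ⟨g, h1, h2⟩ => Subtype.ext (Subtype.ext ?_)⟩
    have : g.1 ∈ zpowers z := d.fix y hy y5 ▸ ⟨m g h1, mem_Cen.2 (congrArg Subtype.val (mem_Cen.1 h2))⟩
    refine ((mem_zp2 d.ord).1 this).resolve_left fun e => ?_
    rw [show g = 1 from Subtype.ext e, isConj_one_left] at h1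
    exact absurd (congrArg Subtype.val h1) (ne_one_of_orderOf d.ord (by norm_num))
  have a3 : Nat.card {g : N // IsConj z' g} ≤ 32 := d.card ▸ Nat.card_le_card_of_injective
    (fun g => (⟨g.1.1, m g.1 g.2⟩ : E)) fun a b e => Subtype.ext (Subtype.ext (Subtype.mk.inj e))
  have a4 : Cen z' = (Cen z).subgroupOf N := by
    ext g; rw [mem_subgroupOf, mem_Cen, mem_Cen, Subtype.ext_iff]; rfl
  rw [a2, card_class, a4] at a1
  rw [card_class, a4] at a3
  change (Cen z).relIndex N ≡ _ [MOD 5] at a1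
  change (Cen z).relIndex N ≤ _ at a3
  have a5 := card_subgroup_dvd_card N
  rw [← H5.card_mul_relIndex d.nor, d.cc, hG] at a5
  have a6 : (Cen z).relIndex N ∣ 26163 := Nat.dvd_of_mul_dvd_mul_left (by norm_num : 0 < 1920) a5
  rw [← relIndex_eq_one]
  generalize (Cen z).relIndex N = k at *
  unfold Nat.ModEq at a1
  interval_cases k <;> omega

theorem pg (d : Dt z E) : IsPGroup 2 E := .of_card (n := 5) d.card

theorem dich (d : Dt z E) {Y : Subgroup G} (h : Y ≤ E) (zY : z ∈ Y) (hy : y ∈ Cen z)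
    (y5 : orderOf y = 5) (hn : y ∈ normalizer (Y : Set G)) : Y = zpowers z ∨ Y = E := by
  have a1 := mod5 y5 hn
  have a2 : Y ⊓ Cen y = zpowers z := le_antisymm (d.fix y hy y5 ▸ inf_le_inf_right _ h)
    (zpowers_le.2 ⟨zY, mem_Cen_comm.1 hy⟩)
  have a3 := card_dvd_of_le h
  rw [d.card] at a3
  rw [a2, Nat.card_zpowers, d.ord] at a1
  obtain ⟨i, hi, e⟩ := (Nat.dvd_prime_pow Nat.prime_two (m := 5)).1 a3
  have : Nat.card Y = 2 ∨ Nat.card Y = 32 := by
    rw [e] at a1 ⊢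
    interval_cases i <;> first | exact absurd a1 (by decide) | simp
  exact this.imp (fun e => (eq_of_le_of_card_ge (zpowers_le.2 zY)
    (by rw [e, Nat.card_zpowers, d.ord])).symm) fun e => eq_of_le_of_card_ge h (by rw [e, d.card])

theorem elem (d : Dt z E) (hw : w ∈ E) (wc : w ∈ centralizer (E : Set G)) (wz : w ∉ zpowers z) :
    E ≤ centralizer (E : Set G) ∧ ∀ x ∈ E, x * x = 1 := by
  obtain ⟨y, hy, y5⟩ := d.ex5
  have ab : E ≤ centralizer (E : Set G) := by
    rcases d.dich (Y := E ⊓ centralizer (E : Set G)) inf_le_left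
      ⟨d.mem, fun g hg => (mem_Cen.1 (d.le hg)).symm⟩ hy y5 (H4.le_normalizer_inf d.nor
        (H4.le_normalizer_centralizer d.nor) hy) with e | e
    · exact absurd (e ▸ ⟨hw, wc⟩) wz
    · exact e.ge.trans inf_le_right
  refine ⟨ab, ?_⟩
  let Y : Subgroup G :=
    { carrier := {x | x ∈ E ∧ x * x = 1}
      mul_mem' := fun {a b} ha hb => ⟨E.mul_mem ha.1 hb.1, by
        rw [mul_assoc, ← mul_assoc b, ab ha.1 b hb.1, mul_assoc, hb.2, mul_one, ha.2]⟩
      one_mem' := ⟨E.one_mem, mul_one 1⟩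
      inv_mem' := fun {a} ha => ⟨E.inv_mem ha.1, by rw [← mul_inv_rev, ha.2, inv_one]⟩ }
  have zz : z * z = 1 := by rw [← pow_two, ← d.ord, pow_orderOf_eq_one]
  have yn : zpowers y ≤ normalizer (E : Set G) := zpowers_le.2 (d.nor hy)
  have cop : (Nat.card (zpowers y)).Coprime (Nat.card E) := by
    rw [Nat.card_zpowers, y5, d.card]; norm_num
  rcases d.dich (Y := Y) (fun _ h => h.1) ⟨d.mem, zz⟩ hy y5 (H4.mem_normalizer_of_conjS_le (by
    rintro _ ⟨x, hx, rfl⟩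
    exact ⟨(mem_normalizer_iff.1 (d.nor hy) x).1 hx.1, by
      rw [MulEquiv.coe_toMonoidHom, ← map_mul, hx.2, map_one]⟩)) with e | e
  · exfalso
    have a1 := H5.commutator_inf_centralizer_eq_bot (V := E)
      ⟨⟨fun u v => Subtype.ext (ab v.2 u u.2)⟩⟩ yn cop
    have a2 := H5.commutator_sup_centralizer yn cop (.inl inferInstance)
    have a3 := H5.commutator_le_left_of_le_normalizer yn
    rw [← Cen_eq_centralizer_zpowers] at a1 a2
    rcases (d.pg.to_le a3).card_eq_or_dvd with h | h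
    · rw [card_eq_one.1 h, bot_sup_eq, d.fix y hy y5] at a2
      exact wz (a2 ▸ hw)
    · obtain ⟨u, hu⟩ := exists_prime_orderOf_dvd_card' 2 h
      have : u.1 ∈ zpowers z := e ▸ ⟨a3 u.2, by
        rw [← pow_two, ← hu]; exact congrArg Subtype.val (pow_orderOf_eq_one u)⟩
      rw [← d.fix y hy y5] at this
      exact ne_one_of_orderOf hu (by norm_num) (Subtype.ext (mem_bot.1 (a1 ▸ ⟨u.2, this.2⟩)))
  · exact fun x hx => (e.ge hx).2

end Dt

section main
variable {S : Subgroup G}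

theorem Dt.leS (d : Dt z E) (hS : Nat.card S = 128) (h : S ≤ Cen z) : E ≤ S := by
  refine H5.IsSylowOf.le_of_le_normalizer (q := 2) (K := Cen z)
    ⟨h, .of_card (n := 7) hS, fun k => ?_⟩ d.pg d.le (h.trans d.nor)
  have := H5.card_mul_relIndex h
  rw [hS, d.cc] at this
  omega

theorem Dt.cenE (d : Dt z E) (hS : Nat.card S = 128) (h : S ≤ Cen z) (hw : w ∈ S)
    (k : 8 < Nat.card (E ⊓ Cen w : Subgroup G)) : w ∈ E := by
  by_contra wE
  exact (d.small (h hw) (by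
    rw [← hS]; exact congrArg Subtype.val (pow_card_eq_one' (x := (⟨w, hw⟩ : S)))) wE).not_gt k

/-- two different `2`-central involutions of `S` -/
theorem Dt.two (hG : Nat.card G = 50232960) (d : Dt z E) (e : Dt w F) (hS : Nat.card S = 128)
    (h : S ≤ Cen z) (h' : S ≤ Cen w) (ne : w ≠ z) :
    (∀ x ∈ E, x * x = 1) ∧ E ⊔ F = S ∧ E ⊓ F = S ⊓ centralizer (S : Set G) ∧
      Nat.card (E ⊓ F : Subgroup G) = 8 := by
  have k : ∀ {z w : G} {E F : Subgroup G}, Dt z E → Dt w F → S ≤ Cen z → S ≤ Cen w → w ≠ z →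
      E ≤ centralizer (E : Set G) ∧ ∀ x ∈ E, x * x = 1 := fun {z w E F} d e h h' ne => by
    have a1 : E ≤ Cen w := (d.leS hS h).trans h'
    refine d.elem (d.cenE hS h (e.leS hS h' e.mem) (by rw [inf_eq_left.2 a1, d.card]; norm_num))
      (fun g hg => (mem_Cen.1 (a1 hg)).symm) fun hw => ?_
    exact ((mem_zp2 d.ord).1 hw).elim (ne_one_of_orderOf e.ord (by norm_num)) ne
  obtain ⟨a1, a2⟩ := k d e h h' ne
  obtain ⟨a3, -⟩ := k e d h' h ne.symm
  have ES := d.leS hS h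
  have FS := e.leS hS h'
  obtain ⟨t, ht, tE⟩ : ∃ t ∈ F, t ∉ E := by
    by_contra hc
    push Not at hc
    have EF : F = E := eq_of_le_of_card_ge hc (by rw [d.card, e.card])
    subst EF
    obtain ⟨y, hy, y5⟩ := e.ex5
    have : w ∈ zpowers z := d.fix y (d.norE hG (e.nor hy)) y5 ▸ ⟨e.mem, mem_Cen_comm.1 hy⟩
    exact ((mem_zp2 d.ord).1 this).elim (ne_one_of_orderOf e.ord (by norm_num)) ne
  have sm : Nat.card (E ⊓ Cen t : Subgroup G) ≤ 8 := by
    by_contra hc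
    exact tE (d.cenE hS h (FS ht) (not_le.1 hc))
  have b1 : E ⊓ F ≤ E ⊓ Cen t := fun x hx => ⟨hx.1, mem_Cen.2 (a3 hx.2 t ht)⟩
  have b2 := H5.card_sup_mul_card_inf (K := E) (A := F) (FS.trans (h.trans d.nor))
  have b3 := card_le_of_le (sup_le ES FS)
  have b4 := (card_le_of_le b1).trans sm
  rw [d.card, e.card] at b2
  rw [hS] at b3
  have b5 : Nat.card (E ⊓ F : Subgroup G) = 8 := by nlinarith
  have b6 : E ⊔ F = S := eq_of_le_of_card_ge (sup_le ES FS) (by rw [b5] at b2; omega)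
  refine ⟨a2, b6, eq_of_le_of_card_ge (le_inf (inf_le_left.trans ES) ?_) ?_, b5⟩
  · rw [← b6, le_centralizer_iff]
    exact sup_le (le_centralizer_iff.1 (inf_le_left.trans a1)) (le_centralizer_iff.1 (inf_le_right.trans a3))
  · refine b5 ▸ le_trans (card_le_of_le fun x hx => mem_inf.2 ⟨d.cenE hS h hx.1 ?_, mem_Cen.2 (hx.2 t (FS ht))⟩) sm
    rw [inf_eq_left.2 fun g hg => mem_Cen.2 (hx.2 g (ES hg)).symm, d.card]; norm_num

theorem cyc (hG : Nat.card G = 50232960) (hS : Nat.card S = 128)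
    (all : ∀ z, orderOf z = 2 → S ≤ Cen z → ∃ E, Dt z E) (d : Dt z E) (h : S ≤ Cen z) :
    S ⊓ centralizer (S : Set G) ≤ zpowers z := fun w hw => by
  by_contra wz
  have h' : S ≤ Cen w := fun g hg => mem_Cen.2 (hw.2 g hg).symm
  have ES := d.leS hS h
  have wE : w ∈ E := d.cenE hS h hw.1 (by rw [inf_eq_left.2 (ES.trans h'), d.card]; norm_num)
  obtain ⟨ab, a1⟩ := d.elem wE (fun g hg => hw.2 g (ES hg)) wz
  have n1 : w ≠ 1 := fun e => wz (e ▸ one_mem _)
  have n2 : w ≠ z := fun e => wz (e ▸ mem_zpowers _)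
  have n3 : z * w ≠ 1 := fun e => wz (by
    rw [eq_inv_of_mul_eq_one_right e]; exact inv_mem (mem_zpowers z))
  have h'' : S ≤ Cen (z * w) := fun g hg =>
    mem_Cen_comm.1 (mul_mem (mem_Cen_comm.1 (h hg)) (mem_Cen_comm.1 (h' hg)))
  obtain ⟨F, e⟩ := all w (ord2 (a1 w wE) n1) h'
  obtain ⟨K, k⟩ := all (z * w) (ord2 (a1 _ (mul_mem d.mem wE)) n3) h''
  obtain ⟨-, b1, b2, b3⟩ := d.two hG e hS h h' n2
  obtain ⟨b4, -, b5, -⟩ := k.two hG d hS h'' h (by simpa using n1)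
  obtain ⟨-, -, b6, -⟩ := k.two hG e hS h'' h' (by
    simpa using ne_one_of_orderOf d.ord (by norm_num))
  obtain ⟨b7, -⟩ := e.two hG d hS h' h n2.symm
  have : K ≤ S ⊓ centralizer (S : Set G) := fun x hx => by
    obtain ⟨u, hu, v, hv, rfl⟩ := (H4.mem_sup_of_le_normalizer_left
      ((e.leS hS h').trans (h.trans d.nor))).1 (b1.ge (k.leS hS h'' hx))
    by_cases vE : v ∈ E
    · exact b5 ▸ ⟨hx, mul_mem hu vE⟩
    · have c1 : u ∈ Cen v := mem_Cen.2 (by
        have := b4 _ hx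
        calc v * u = (u * u) * v * u * (v * v) := by rw [a1 u hu, b7 v hv]; simp
          _ = u * (u * v * (u * v)) * v := by group
          _ = _ := by rw [this, mul_one])
      have c2 : E ⊓ F = E ⊓ Cen v := eq_of_le_of_card_ge
        (fun x hx => ⟨hx.1, mem_Cen.2 ((b2.le hx).2 v (e.leS hS h' hv))⟩) (by
          rw [b3]; by_contra hc
          exact vE (d.cenE hS h (e.leS hS h' hv) (not_le.1 hc)))
      exact b6 ▸ ⟨hx, mul_mem (c2.ge ⟨hu, c1⟩).2 hv⟩
  have := card_le_of_le this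
  rw [← b2, b3, k.card] at this
  omega

end main

theorem endgame0 (hcard : Nat.card G = 50232960)
    (h5 : ∀ y : G, orderOf y = 5 → Nat.card (centralizer ({y} : Set G)) = 30 ∧
      Nat.card (normalizer ((zpowers y : Subgroup G) : Set G)) = 60)
    (hz : ∀ z : G, orderOf z = 2 → 128 ∣ Nat.card (centralizer ({z} : Set G)) →
      Nat.card (centralizer ({z} : Set G)) = 1920) (S : Sylow 2 G) :
    IsCyclic ↥(Subgroup.center ↥(S : Subgroup G)) ∧
      ∀ z : G, z ∈ (S : Subgroup G) → (∀ s ∈ (S : Subgroup G), s * z = z * s) → orderOf z = 2 →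
        ∃ (E : Subgroup ↥(Subgroup.centralizer ({z} : Set G))) (hE : E.Normal), Nat.card ↥E = 32 ∧
          Nonempty ((↥(Subgroup.centralizer ({z} : Set G)) ⧸ E) ≃* ↥(alternatingGroup (Fin 5))) := by
  have hS : Nat.card (S : Subgroup G) = 128 :=
    card_sylow_eq S (k := 7) (m := 392445) hcard (by norm_num)
  have all : ∀ z, orderOf z = 2 → (S : Subgroup G) ≤ Cen z → ∃ E, Dt z E := fun z h1 h2 =>
    ex_dt h5 h1 (hz z h1 (hS ▸ card_dvd_of_le h2))
  refine ⟨?_, fun z _ h1 h2 => ?_⟩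
  · haveI : Nontrivial (S : Subgroup G) := Finite.one_lt_card_iff_nontrivial.1 (by omega)
    haveI := S.isPGroup'.center_nontrivial
    obtain ⟨z, h⟩ := exists_prime_orderOf_dvd_card' (G := center (S : Subgroup G)) 2
      ((S.isPGroup'.to_subgroup _).card_eq_or_dvd.resolve_left Finite.one_lt_card.ne')
    have h1 : (S : Subgroup G) ≤ Cen z.1.1 := fun g hg =>
      mem_Cen.2 (congrArg Subtype.val (mem_center_iff.1 z.2 ⟨g, hg⟩)).symm
    obtain ⟨E, d⟩ := all z.1.1 (by rw [orderOf_coe, orderOf_coe, h]) h1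
    refine ⟨z, fun x => ?_⟩
    obtain ⟨i, hi⟩ := cyc hcard hS all d h1 (x := x.1.1) ⟨x.1.2, fun g hg =>
      congrArg Subtype.val (mem_center_iff.1 x.2 ⟨g, hg⟩)⟩
    exact ⟨i, Subtype.ext (Subtype.ext hi)⟩
  · obtain ⟨E, d⟩ := all z h2 fun g hg => mem_Cen.2 (h1 g hg).symm
    obtain ⟨f, sf, hk⟩ := d.hom
    exact ⟨f.ker, inferInstance, by
      rw [hk, ← d.card]; exact Nat.card_congr (subgroupOfEquivOfLe d.le).toEquiv,
      ⟨QuotientGroup.quotientKerEquivOfSurjective f sf⟩⟩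

end JT
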