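import Cfsg.Agent.GW.Cv3
import Cfsg.Agent.H9.Tools7
import Cfsg.Agent.H8.Sieve

/-! A group of order 1920 with a central involution and small 5-centralizers. -/

set_option autoImplicit false
set_option linter.unusedSectionVars false
set_option linter.unusedVariables false

namespace JT

open Subgroup H9

variable {X : Type*} [Group X] [Finite X]

theorem mod5 {M : Subgroup X} {y : X} (hy : orderOf y = 5) (h : y ∈ normalizer (M : Set X)) :
    Nat.card M ≡ Nat.card (M ⊓ Cen y : Subgroup X) [MOD 5] :=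
  card_modEq_card_inter_Cen (p := 5) (k := 1) (fun g => g ∈ M) y
    (by rw [pow_one, ← hy, pow_orderOf_eq_one]) fun g hg => (mem_normalizer_iff.1 h g).1 hg

theorem ord_dvd {M : Subgroup X} {x : X} (h : x ∈ M) : orderOf x ∣ Nat.card M := by
  rw [← Nat.card_zpowers]; exact card_dvd_of_le (zpowers_le.2 h)

theorem loc5 (hX : Nat.card X = 1920) {z : X} (hz : orderOf z = 2) (zc : z ∈ center X)
    {y : X} (hy : orderOf y = 5) (h1 : Nat.card (Cen y) ∣ 30) (h2 : Nat.card (Nor y) ∣ 60) :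
    Nat.card (Cen y) = 10 ∧ Nat.card (Nor y) = 20 := by
  have a1 : 10 ∣ Nat.card (Cen y) := Nat.Coprime.mul_dvd_of_dvd_of_dvd (m := 2) (n := 5) (by norm_num)
    (hz ▸ ord_dvd (mem_Cen.2 (mem_center_iff.1 zc y))) (hy ▸ ord_dvd (self_mem_Cen y))
  have a2 := card_dvd_of_le (Cen_le_Nor y)
  have a3 := index_Nor_modEq (p := 5) (m := 384) hX (by norm_num) hy
  have a4 := (Nor y).card_mul_index
  rw [hX] at a4
  have a5 : Nat.card (Nor y) = 20 := by
    obtain ⟨k, hk⟩ := a1.trans a2
    rw [hk] at h2 a4 ⊢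
    have := Nat.le_of_dvd (by norm_num) h2
    unfold Nat.ModEq at a3
    have : k ≤ 6 := by omega
    interval_cases k <;> omega
  rw [a5] at a2
  exact ⟨Nat.dvd_antisymm (by simpa using Nat.dvd_gcd h1 a2) a1, a5⟩

theorem struct (hX : Nat.card X = 1920) {z : X} (hz : orderOf z = 2) (zc : z ∈ center X)
    (h5 : ∀ y : X, orderOf y = 5 → Nat.card (Cen y) = 10 ∧ Nat.card (Nor y) = 20) :
    ∃ (E : Subgroup X) (_ : E.Normal), Nat.card E = 32 ∧ z ∈ E ∧
      Nonempty (X ⧸ E ≃* alternatingGroup (Fin 5)) := by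
  haveI : Fact (Nat.Prime 3) := ⟨by norm_num⟩
  set N := Cfsg.pPrimeCore 5 X
  have cN : (Nat.card N).Coprime 5 := H4.coprime_card_pPrimeCore 5 X
  have zN : z ∈ N := H4.le_pPrimeCore (N := zpowers z) ⟨fun x hx g => by
    rwa [mem_center_iff.1 (zpowers_le.2 zc hx) g, mul_inv_cancel_right]⟩
    (by rw [Nat.card_zpowers, hz]; norm_num) (mem_zpowers z)
  obtain ⟨y, hy⟩ := exists_prime_orderOf_dvd_card' (G := X) 5 (by rw [hX]; norm_num)
  have b1 : Nat.card (N ⊓ Cen y : Subgroup X) = 2 := by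
    have a1 := card_dvd_of_le (inf_le_right : N ⊓ Cen y ≤ _)
    rw [(h5 y hy).1] at a1
    exact Nat.dvd_antisymm ((cN.coprime_dvd_left (card_dvd_of_le inf_le_left)).dvd_of_dvd_mul_right
      (m := 2) a1) (hz ▸ ord_dvd ⟨zN, mem_Cen.2 (mem_center_iff.1 zc y)⟩)
  have b2 := mod5 (M := N) hy (le_normalizer_of_normal (mem_top y))
  have b3 : ¬ 3 ∣ Nat.card N := fun h => by
    obtain ⟨R, hR, hn⟩ := H5.exists_invariant_isSylowOf 3 (A := zpowers y) (K := N)
      le_normalizer_of_normal (by rw [Nat.card_zpowers, hy]; exact cN.symm) (.inl inferInstance)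
    have a1 := mod5 hy (hn (mem_zpowers y))
    obtain ⟨i, hi⟩ := hR.isPGroup.exists_card_eq
    have a2 : Nat.card (R ⊓ Cen y : Subgroup X) = 1 := by
      have := Nat.dvd_gcd (card_dvd_of_le (inf_le_left : R ⊓ Cen y ≤ _))
        (card_dvd_of_le (inf_le_inf_right (Cen y) hR.le))
      rwa [hi, b1, Nat.Coprime.pow_left i (by norm_num), Nat.dvd_one] at this
    have a3 := card_subgroup_dvd_card R
    have a4 := hR.ne_bot h
    rw [Ne, ← card_eq_one] at a4
    rw [a2, hi] at a1
    rw [hi] at a3 a4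
    rw [hX] at a3
    rcases i with _ | _ | i
    · exact a4 rfl
    · exact absurd a1 (by decide)
    · exact absurd ((pow_dvd_pow 3 (by omega : 2 ≤ i + 1 + 1)).trans a3) (by norm_num)
  have b4 : Nat.card N = 2 ∨ Nat.card N = 32 := by
    have a1 := card_subgroup_dvd_card N
    rw [hX] at a1
    have a2 : Nat.card N ∣ 2 ^ 7 := (((Nat.Prime.coprime_iff_not_dvd (by norm_num)).2 b3).symm.mul_right
      cN).dvd_of_dvd_mul_right (m := 2 ^ 7) a1
    obtain ⟨i, hi, e⟩ := (Nat.dvd_prime_pow Nat.prime_two).1 a2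
    rw [b1, e] at b2
    rw [e]
    interval_cases i <;> first | exact absurd b2 (by decide) | simp
  have b5 : ∀ M : Subgroup X, M.Normal → N ≤ M → M = N ∨ M = ⊤ := fun M hM NM => by
    by_cases h : 5 ∣ Nat.card M
    swap
    · exact .inl (le_antisymm (H4.le_pPrimeCore hM
        ((Nat.Prime.coprime_iff_not_dvd (by norm_num)).2 h).symm) NM)
    obtain ⟨y, hy⟩ := exists_prime_orderOf_dvd_card' (G := M) 5 h
    have hy' : orderOf y.1 = 5 := by rw [orderOf_coe, hy]
    have a0 := card_subgroup_dvd_card M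
    rw [hX] at a0
    have a1 : H5.IsSylowOf 5 (zpowers y.1) M := ⟨zpowers_le.2 y.2,
      .of_card (n := 1) (by rw [Nat.card_zpowers, hy', pow_one]), fun h => by
        have := H5.card_mul_relIndex (zpowers_le.2 y.2)
        rw [Nat.card_zpowers, hy'] at this
        exact absurd ((this ▸ Nat.mul_dvd_mul_left 5 h).trans a0) (by norm_num)⟩
    have a2 := a1.sup_normalizer le_top le_normalizer_of_normal
    have a3 := H5.card_sup_mul_card_inf (K := M) (A := Nor y.1) le_normalizer_of_normal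
    rw [top_inf_eq] at a2
    rw [a2, card_top, hX, (h5 _ hy').2] at a3
    have zy : z ∈ Cen y.1 := mem_Cen.2 (mem_center_iff.1 zc _)
    have a4 : 10 ∣ Nat.card (M ⊓ Cen y.1 : Subgroup X) :=
      Nat.Coprime.mul_dvd_of_dvd_of_dvd (m := 2) (n := 5) (by norm_num)
        (hz ▸ ord_dvd ⟨NM zN, zy⟩) (hy' ▸ ord_dvd ⟨y.2, self_mem_Cen _⟩)
    have a5 := card_dvd_of_le (inf_le_right : M ⊓ Nor y.1 ≤ _)
    have a6 := card_dvd_of_le (inf_le_inf_left M (Cen_le_Nor y.1))
    rw [(h5 _ hy').2] at a5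
    obtain ⟨k, hk⟩ := a4.trans a6
    have a7 : k = 1 ∨ k = 2 := by
      rw [hk] at a5
      exact (Nat.dvd_prime Nat.prime_two).1 (Nat.dvd_of_mul_dvd_mul_left (by norm_num : 0 < 10) a5)
    rcases a7 with rfl | rfl
    swap
    · exact .inr (eq_top_of_card_eq _ (by omega))
    exfalso
    have a8 : M ⊓ Cen y.1 = M ⊓ Nor y.1 := eq_of_le_of_card_ge (inf_le_inf_left M (Cen_le_Nor y.1))
      (by rw [hk]; exact Nat.le_of_dvd Nat.card_pos a4)
    obtain ⟨P, hP⟩ := exists_sylow_zpowers (G := M) (p := 5) (m := 192) (by omega) (by norm_num) hy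
    have a9 : normalizer ((P : Subgroup M) : Set M) ≤ centralizer ((P : Subgroup M) : Set M) := by
      rw [hP, ← Cen_eq_centralizer_zpowers]
      intro g hg
      obtain ⟨i, hi⟩ := mem_Nor.1 hg
      have : g.1 ∈ M ⊓ Cen y.1 := a8 ▸ ⟨g.2, mem_Nor.2 ⟨i, congrArg Subtype.val hi⟩⟩
      exact mem_Cen.2 (Subtype.ext (mem_Cen.1 this.2))
    have c1 := (MonoidHom.ker_transferSylow_isComplement' P a9).card_mul
    have c0 : Nat.card (P : Subgroup M) = 5 := by rw [hP, Nat.card_zpowers, hy]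
    rw [c0] at c1
    have c2 : Nat.card (MonoidHom.transferSylow P a9).ker = 192 := by omega
    have c3 := card_le_of_le ((map_mono (f := M.subtype) (H4.le_pPrimeCore inferInstance
      (by rw [c2]; norm_num))).trans (H4.pPrimeCoreIn_le_pPrimeCore (p := 5) hM.isSubnormal))
    rw [card_map_of_injective M.subtype_injective, c2] at c3
    change _ ≤ Nat.card N at c3
    omega
  have b6 := card_mul_index N
  rw [hX, index_eq_card] at b6
  have b7 : Nat.card (X ⧸ N) = 960 ∨ Nat.card (X ⧸ N) = 60 := by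
    rcases b4 with e | e <;> rw [e] at b6 <;> omega
  haveI : Nontrivial (X ⧸ N) := Finite.one_lt_card_iff_nontrivial.1 (by omega)
  haveI : IsSimpleGroup (X ⧸ N) := ⟨fun M hM => by
    rw [← map_comap_eq_self_of_surjective (QuotientGroup.mk'_surjective N) M]
    rcases b5 (M.comap (QuotientGroup.mk' N)) inferInstance
      ((QuotientGroup.ker_mk' N).ge.trans (ker_le_comap _ _)) with e | e
    · rw [e, Subgroup.map_eq_bot_iff, QuotientGroup.ker_mk']; exact .inl le_rfl
    · rw [e]; exact .inr (map_top_of_surjective _ (QuotientGroup.mk'_surjective N))⟩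
  rcases b7 with e | e
  · exact (H8.card_ne_of_killP (H8.not_comm_of_card_eq e (a := 5) (b := 192) (by norm_num)
      (by norm_num) (by norm_num)) (B := 80) (p := 3) (by decide +kernel) e).elim
  · exact ⟨N, inferInstance, by rw [e] at b6; omega, zN, GW.iso60 e⟩

end JT
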