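import Cfsg.Agent.JT.Main0
import Cfsg.Agent.JT.AEF
import Cfsg.Agent.JT.Kb
import Cfsg.Agent.JT.E4
import Cfsg.Agent.JT.E5
import Cfsg.Agent.JT.L17

/-! Simple groups of order 50232960: the 5-local data. -/

set_option autoImplicit false
set_option linter.unusedSectionVars false

namespace JT
open Cfsg H8 H2 Subgroup MQ

variable {G : Type*} [Group G] [Fintype G] [IsSimpleGroup G] {x y r : G}

theorem Loc.not_e4 (L : Loc x y) (h : DefOne 5 r) (he : Nat.card h.H = 4) : False := by
  obtain ⟨F⟩ := exists_full h (n := 4) rfl he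
  rcases L.bcd he F with ⟨hF, hv⟩ | ⟨hF, hv⟩ | ⟨hF, hv⟩
  · have := L.not_B8_108 F hF
    refine E5.not_B L he F hF ?_
    simp only [List.mem_cons, List.not_mem_nil, or_false] at hv
    omega
  · exact L.not_C F hF hv
  · exact L.not_D F hF hv

theorem Loc.five (L : Loc x y) (r : G) (h : DefOne 5 r) :
    Nat.card h.H = 2 ∧ Nat.card h.V = 6 := by
  obtain ⟨-, -, -, h4, h5⟩ := loc_num L.nc h (m := 10046592) L.hN
  have he : Nat.card h.H = 2 := by
    have h6 := Nat.le_of_dvd (by norm_num) h4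
    have h7 : Nat.card h.H ≠ 4 := fun e => L.not_e4 h e
    have h8 : Nat.card h.H ≠ 3 := fun e => by rw [e] at h4; omega
    omega
  obtain ⟨T⟩ := exists_gen h (n := 1) he
  have hd := c324 L.hN T L.ty
  exact ⟨he, (v5 L.hN he T hd).resolve_right (L.not_v96 T hd)⟩

end JT
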