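import Cfsg.Agent.MQ.B7
import Cfsg.Agent.MQ.La

/-! Simple groups of order 50232960: numerical tools. -/

set_option autoImplicit false
set_option linter.unusedSectionVars false

namespace JT
open Cfsg H8 H2 Subgroup MQ

/-- The divisors of `50232960`. -/
def dvG : List ℕ := (dvs 128).flatMap fun a => (dvs 243).flatMap fun b => (dvs 85).flatMap fun c =>
  (dvs 19).map fun d => a * (b * (c * d))

theorem mem_dvG {n : ℕ} (h : n ∣ 50232960) : n ∈ dvG := by
  rw [show 50232960 = 128 * (243 * (85 * 19)) from rfl] at h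
  obtain ⟨a, r, ha, hr, rfl⟩ := (Nat.dvd_mul).1 h
  obtain ⟨b, r', hb, hr', rfl⟩ := (Nat.dvd_mul).1 hr
  obtain ⟨c, d, hc, hd, rfl⟩ := (Nat.dvd_mul).1 hr'
  simp only [dvG, List.mem_flatMap, List.mem_map]
  exact ⟨a, mem_dvs (by norm_num) ha, b, mem_dvs (by norm_num) hb, c, mem_dvs (by norm_num) hc,
    d, mem_dvs (by norm_num) hd, rfl⟩

/-- `t` is a sum of `k` members of the list -/
def reach {A : Type} [AddCommGroup A] [DecidableEq A] : List A → ℕ → A → Bool
  | [] => fun k t => k == 0 && decide (t = 0)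
  | s :: S => fun k => Nat.rec (fun t => reach S 0 t) (fun k ih t => reach S (k + 1) t || ih (t - s)) k

theorem reach_list {A : Type} [AddCommGroup A] [DecidableEq A] (S : List A) :
    ∀ (k : ℕ) (l : List A), l.length = k → (∀ a ∈ l, a ∈ S) → reach S k l.sum = true := by
  induction S with
  | nil =>
    intro k l hk h
    obtain rfl : l = [] := List.eq_nil_iff_forall_not_mem.2 fun a ha => by simpa using h a ha
    simp [reach, ← hk]
  | cons s S ih =>
    intro k
    induction k with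
    | zero =>
      intro l hk h
      obtain rfl := List.length_eq_zero_iff.1 hk
      exact ih 0 [] rfl (by simp)
    | succ k ih' =>
      intro l hk h
      change (reach S (k + 1) l.sum || reach (s :: S) k (l.sum - s)) = true
      rw [Bool.or_eq_true]
      by_cases hs : s ∈ l
      · right
        have := ih' (l.erase s) (by rw [List.length_erase_of_mem hs, hk]; rfl)
          fun a ha => h a (List.mem_of_mem_erase ha)
        rwa [← List.sum_erase hs, add_sub_cancel_left]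
      · exact .inl (ih _ l hk fun a ha => (List.mem_cons.1 (h a ha)).resolve_left
          fun e => hs (e ▸ ha))

theorem reach_fin {A : Type} [AddCommGroup A] [DecidableEq A] {S : List A} {n : ℕ} {c : Fin n → A}
    (h : ∀ j, c j ∈ S) : reach S n (∑ j, c j) = true := by
  rw [← List.sum_ofFn]
  exact reach_list S n _ (List.length_ofFn) fun a ha => by
    obtain ⟨j, rfl⟩ := (List.mem_ofFn' _ _).1 ha
    exact h j

/-- the signed divisors of `L` that are `r` modulo `p`, above `b` and with square at most `|G|` -/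
def SD (L b : ℕ) (p r : ℤ) : List ℤ :=
  ((dvG.filter fun d => L % d == 0 && decide (b < d) && decide (d * d ≤ 50232960)).flatMap
    fun d : ℕ => [(d : ℤ), -(d : ℤ)]).filter fun q => (q - r) % p == 0

theorem mem_SD {L b d : ℕ} {p r s : ℤ} (hL : L ∣ 50232960) (hd : d ∣ L) (hb : b < d)
    (h2 : d * d ≤ 50232960) (hs : s = 1 ∨ s = -1) (hr : p ∣ s * d - r) : s * d ∈ SD L b p r := by
  simp only [SD, List.mem_filter, List.mem_flatMap, Bool.and_eq_true, beq_iff_eq,
    decide_eq_true_eq]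
  refine ⟨⟨d, ⟨mem_dvG (hd.trans hL), ⟨Nat.mod_eq_zero_of_dvd hd, hb⟩, h2⟩, ?_⟩,
    Int.emod_eq_zero_of_dvd hr⟩
  rcases hs with rfl | rfl <;> simp

instance fact17 : Fact (Nat.Prime 17) := ⟨by norm_num⟩
instance fact19 : Fact (Nat.Prime 19) := ⟨by norm_num⟩

variable {G : Type*} [Group G] [Fintype G] [IsSimpleGroup G] {p q : ℕ} [hp : Fact p.Prime]
  [hq : Fact q.Prime] {x y w : G}

theorem nc (hN : Nat.card G = 50232960) : ¬ IsMulCommutative G :=
  not_comm_of_card_not_prime (by rw [hN]; norm_num)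

theorem perf (hN : Nat.card G = 50232960) : _root_.commutator G = ⊤ :=
  commutator_eq_top_of_simple (nc hN)

theorem ex_gen (h : DefOne p x) : ∃ n, Nat.card h.H = n + 1 ∧ Nonempty (Gen h n) :=
  have e : Nat.card h.H = (Nat.card h.H).pred + 1 := (Nat.succ_pred_eq_of_pos Nat.card_pos).symm
  ⟨_, e, exists_gen h e⟩

/-- the numerical data of the normalizer -/
theorem idx (hN : Nat.card G = 50232960) (h : DefOne p x) {m : ℕ} (hm : 50232960 = p * m) :
    Nat.card h.V ∈ dvG ∧ m % (Nat.card h.H * Nat.card h.V) = 0 ∧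
      m / (Nat.card h.H * Nat.card h.V) % p = 1 ∧ (Cx x).index = m / Nat.card h.V ∧
      (Cx x).index ∣ 50232960 ∧ Nat.card h.H ∣ p - 1 ∧ 1 < Nat.card h.H := by
  obtain ⟨h1, h2, -, h4, h5⟩ := loc_num (nc hN) h (m := m) (hN.trans hm)
  refine ⟨mem_dvG (hN ▸ card_subgroup_dvd_card _), Nat.mod_eq_zero_of_dvd ?_, ?_, ?_,
    hN ▸ index_dvd_card _, h4, h5⟩
  · rw [← h1, mul_assoc]; exact dvd_mul_left _ _
  · rw [← h1, mul_assoc, Nat.mul_div_cancel _ (mul_pos Nat.card_pos Nat.card_pos), h2]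
  · rw [h.index_Cx, ← h1, Nat.mul_div_cancel _ Nat.card_pos]

/-- the signed degrees of a block -/
theorem q_mem (hN : Nat.card G = 50232960) {h : DefOne p x} {n : ℕ} (T : Gen h n) {b : ℕ}
    (hb : (∀ j, b < deg (T.c j)) ∧ b < deg T.E) :
    (∀ j, T.q j ∈ SD (Cx x).index b p 1) ∧ T.q0 ∈ SD (Cx x).index b p (-(n + 1)) :=
  ⟨fun j => mem_SD (hN ▸ index_dvd_card _) (T.dvd j) (hb.1 j) (hN ▸ deg_sq_le _) (T.s_eq j)
    (T.mod j), mem_SD (hN ▸ index_dvd_card _) T.dvd0 hb.2 (hN ▸ deg_sq_le _) T.s0_eq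
    (by rw [sub_neg_eq_add]; exact T.mod0)⟩

/-- the relation of a block averaged over a section for another prime -/
theorem mu_gen {h : DefOne p y} {n : ℕ} (T : Gen h n) (l : DefOne q w)
    (hr : ∀ g ∈ Cx w, ¬ p ∣ orderOf g) :
    1 + ∑ j, T.s j * mu l (T.c j) + T.s0 * mu l T.E = 0 := by
  classical
  have a : ∑ v : l.V, (1 + ∑ j, T.s j * (T.c j).1 (w * v) + T.s0 * T.E.1 (w * v)) = 0 :=
    Finset.sum_eq_zero fun v _ => T.lin _ (hr _ (mul_mem self_mem_Cx (l.V_le v.2)))
  rw [Finset.sum_add_distrib, Finset.sum_add_distrib, Finset.sum_comm, Finset.sum_const,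
    Finset.card_univ, ← Nat.card_eq_fintype_card, nsmul_eq_mul, mul_one] at a
  have c := card_ne_zero_complex (G := l.V)
  simp only [mu, ← mul_div_assoc, ← Finset.sum_div, Finset.mul_sum]
  field_simp
  linear_combination a

/-- the mean of a character over the section -/
theorem mu_cases {l : DefOne q w} {m : ℕ} (T : Gen l m) {χ : IrrCharacter G} (h1 : χ ≠ one1 G) :
    mu l χ = 0 ∨ (∃ s : ℤ, (s = 1 ∨ s = -1) ∧ mu l χ = s ∧ (q : ℤ) ∣ s * deg χ - 1) ∨
      (χ ∈ T.X ∧ (q : ℤ) ∣ T.s0 * deg χ + (m + 1) ∧ m + 2 < q) := by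
  by_cases h2 : ∃ j, T.c j = χ
  · obtain ⟨j, rfl⟩ := h2
    exact .inr (.inl ⟨_, T.s_eq j, mu_const l fun v hv => T.val_mul j hv, T.mod j⟩)
  by_cases h3 : χ ∈ T.X
  swap
  · exact .inl (T.mu_other h1 (not_exists.1 h2) h3)
  have h4 := T.mod0
  rw [← T.deg_X h3] at h4
  have h5 := T.cardX
  have h6 := hq.out.two_le
  by_cases h7 : T.X.card = 1
  · obtain ⟨θ, hθ⟩ := Finset.card_eq_one.1 h7
    refine .inr (.inl ⟨_, T.s0_eq, mu_const l fun v hv => ?_, ?_⟩)
    · have := T.valX 1 one_ne_zero v hv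
      rw [hθ, Finset.mem_singleton] at h3
      rwa [hθ, Finset.sum_singleton, xp_one, ← h3] at this
    · rw [h7, one_mul] at h5
      have : (q : ℤ) = m + 2 := by omega
      obtain ⟨c, hc⟩ := h4
      exact ⟨c - 1, by linear_combination hc + this⟩
  · refine .inr (.inr ⟨h3, h4, ?_⟩)
    have := Finset.card_pos.2 ⟨χ, h3⟩
    have : 2 * (m + 1) ≤ q - 1 := h5 ▸ Nat.mul_le_mul_right _ (by omega)
    omega

end JT
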