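import Cfsg.Agent.JT.B4
import Cfsg.Agent.JT.End0

/-! Simple groups of order 50232960: the endgame from the 5-local data. -/

set_option autoImplicit false
set_option linter.unusedSectionVars false

namespace JT
open Cfsg H8 H2 Subgroup MQ

variable {G : Type*} [Group G] [Fintype G] [IsSimpleGroup G] {x y : G}

theorem Loc.fin (L : Loc x y)
    (H : ∀ (r : G) (h : DefOne 5 r), Nat.card h.H = 2 ∧ Nat.card h.V = 6) (S : Sylow 2 G) :
    IsCyclic ↥(Subgroup.center ↥(S : Subgroup G)) ∧
      ∀ z : G, z ∈ (S : Subgroup G) → (∀ s ∈ (S : Subgroup G), s * z = z * s) → orderOf z = 2 →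
        ∃ (E : Subgroup ↥(Subgroup.centralizer ({z} : Set G))) (_ : E.Normal), Nat.card ↥E = 32 ∧
          Nonempty ((↥(Subgroup.centralizer ({z} : Set G)) ⧸ E) ≃* ↥(alternatingGroup (Fin 5))) := by
  have n : ¬ 5 ^ 2 ∣ Nat.card G := by rw [L.hN]; norm_num
  refine endgame0 L.hN (fun r o => ?_) (fun z o c => ?_) S
  · have h : DefOne 5 r := ⟨o, n⟩
    have a := h.card_Cx
    have b := h.card_Nx
    rw [(H r h).2] at a
    rw [(H r h).1, a] at b
    exact ⟨a, b⟩
  · obtain ⟨r, h⟩ := exists_defOne (G := G) (p := 5) (m := 10046592) L.hN (by decide)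
    obtain ⟨T⟩ := exists_gen h (n := 1) (H r h).1
    exact (cz L.hN (H r h).2 T (c324 L.hN T L.ty) o c (L.hx.not_dvd_card_Cx L.vx
      (fun e => by simp [e] at o) (by rw [o]; decide))).1

end JT
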