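import Cfsg.Agent.MQ.B7

/-! The real stem of a principal 5-block with inertial index 4. -/

set_option autoImplicit false
set_option linter.unusedSectionVars false

namespace JT
open Cfsg H8 H2 Subgroup MQ
open scoped ComplexConjugate Matrix

variable {G H : Type*} [Group G] [Fintype G] [Group H] [Fintype H]

theorem fs_sum (χ : IrrCharacter G) : ∑ g, χ.1 (g ^ 2) = Nat.card G * fsI χ :=
  (exists_fs_ind χ).choose_spec.1

theorem sq_sum {χ : IrrCharacter G} (h : cc χ = χ) : ∑ g, χ.1 g ^ 2 = Nat.card G := by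
  have e := irr_classInner_self χ.2
  rw [classInner, inv_mul_eq_one₀ card_ne_zero_complex] at e
  rw [e]
  exact Finset.sum_congr rfl fun g _ => by
    rw [char_conj_eq (irr_isCharacter χ.2), real_of_cc h, sq]

theorem rank_fact {n : ℕ} {P : Matrix (Fin n) (Fin n) ℂ} (hP : P * P = P) :
    ∃ (k : ℕ) (E : Matrix (Fin n) (Fin k) ℂ) (R : Matrix (Fin k) (Fin n) ℂ),
      E * R = P ∧ R * E = 1 := by
  let p := Matrix.toLin' P
  let b := Module.finBasis ℂ (LinearMap.range p)
  refine ⟨_, LinearMap.toMatrix b (Pi.basisFun ℂ _) (LinearMap.range p).subtype,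
    LinearMap.toMatrix (Pi.basisFun ℂ _) b p.rangeRestrict, ?_, ?_⟩
  · rw [← LinearMap.toMatrix_comp, LinearMap.toMatrix_eq_toMatrix']
    exact LinearMap.toMatrix'_toLin' P
  · rw [← LinearMap.toMatrix_comp, ← LinearMap.toMatrix_id b]
    congr 1
    refine LinearMap.ext fun ⟨_, w, rfl⟩ => Subtype.ext ?_
    show P *ᵥ (P *ᵥ w) = P *ᵥ w
    rw [Matrix.mulVec_mulVec, hP]

/-- a real character with an odd-dimensional fixed space is orthogonal -/
theorem fs_fix {χ : IrrCharacter G} (h : cc χ = χ) (ι : H →* G) {d : ℤ}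
    (hd : ∑ a, χ.1 (ι a) = Nat.card H * d) (ho : d % 2 = 1) : fsI χ = 1 := by
  have e1 := sq_sum h
  have e2 := fs_sum χ
  generalize fsI χ = f at *
  obtain ⟨_, n, ρ, hρ, rfl⟩ := χ
  let M : G → Matrix (Fin n) (Fin n) ℂ := fun g => LinearMap.toMatrix' (ρ g)
  have Mm : ∀ g k, M (g * k) = M g * M k := fun g k => by simp [M, LinearMap.toMatrix'_mul]
  have M1 : M 1 = 1 := by simp [M]
  have tr : ∀ g, ρ.character g = ∑ i, M g i i := fun g => by
    rw [Representation.character, LinearMap.trace_eq_matrix_trace ℂ (Pi.basisFun ℂ (Fin n)),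
      LinearMap.toMatrix_eq_toMatrix']
    rfl
  have cH := card_ne_zero_complex (G := H)
  let P : Matrix (Fin n) (Fin n) ℂ := (Nat.card H : ℂ)⁻¹ • ∑ a, M (ι a)
  have MP : ∀ a, M (ι a) * P = P := fun a => by
    simp only [P, Matrix.mul_smul, Finset.mul_sum, ← Mm, ← map_mul]
    congr 1
    exact Equiv.sum_comp (Equiv.mulLeft a) fun e => M (ι e)
  have PP : P * P = P := by
    conv_lhs => enter [1]; simp only [P]
    rw [Matrix.smul_mul, Finset.sum_mul, Finset.sum_congr rfl fun a _ => MP a, Finset.sum_const,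
      Finset.card_univ, ← Nat.cast_smul_eq_nsmul ℂ, smul_smul, ← Nat.card_eq_fintype_card,
      inv_mul_cancel₀ cH, one_smul]
  obtain ⟨k, E, R, ER, RE⟩ := rank_fact PP
  have tk : (k : ℂ) = d := by
    have t1 : P.trace = d := by
      simp only [P, Matrix.trace_smul, Matrix.trace_sum, smul_eq_mul]
      rw [inv_mul_eq_iff_eq_mul₀ cH, ← hd]
      exact Finset.sum_congr rfl fun a _ => (tr _).symm
    rw [← t1, ← ER, Matrix.trace_mul_comm, RE, Matrix.trace_one, Fintype.card_fin]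
  have ko : Odd k := by
    have : (k : ℤ) = d := by exact_mod_cast tk
    exact Nat.odd_iff.2 (by omega)
  have z : ∀ B : Matrix (Fin n) (Fin n) ℂ, Bᵀ = -B → (∀ g, (M g)ᵀ * B * M g = B) → B = 0 := by
    intro B hB hi
    have d0 : (Eᵀ * B * E).det = 0 := by
      have : (Eᵀ * B * E)ᵀ = -(Eᵀ * B * E) := by
        simp [Matrix.transpose_mul, hB, Matrix.mul_assoc]
      have := congrArg Matrix.det this
      rw [Matrix.det_transpose, Matrix.det_neg, Fintype.card_fin, ko.neg_one_pow] at this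
      linear_combination this / 2
    obtain ⟨c, c0, hc⟩ := Matrix.exists_mulVec_eq_zero_iff.2 d0
    have PB : Pᵀ * B = B * P := by
      simp only [P, Matrix.transpose_smul, Matrix.transpose_sum, Matrix.smul_mul, Matrix.mul_smul,
        Finset.sum_mul, Finset.mul_sum]
      congr 1
      refine Fintype.sum_equiv (Equiv.inv H) _ _ fun a => ?_
      conv_rhs => rw [← hi (ι a), Matrix.mul_assoc, ← Mm, Equiv.inv_apply, ← map_mul,
        mul_inv_cancel, map_one, M1, Matrix.mul_one]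
    have v0 : E *ᵥ c ≠ 0 := fun e => c0 (by
      rw [← Matrix.one_mulVec c, ← RE, ← Matrix.mulVec_mulVec, e, Matrix.mulVec_zero])
    have hv : B *ᵥ (E *ᵥ c) = 0 := by
      have : B * E = Rᵀ * (Eᵀ * B * E) := by
        rw [← Matrix.mul_assoc, ← Matrix.mul_assoc, ← Matrix.transpose_mul, ER, PB,
          Matrix.mul_assoc, ← ER, Matrix.mul_assoc, RE, Matrix.mul_one]
      rw [Matrix.mulVec_mulVec, this, ← Matrix.mulVec_mulVec, hc, Matrix.mulVec_zero]
    let K : Subrepresentation ρ := ⟨LinearMap.ker (Matrix.toLin' B), fun g x hx => by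
      have hx' : B *ᵥ x = 0 := hx
      show B *ᵥ (ρ g x) = 0
      rw [← hi g⁻¹, ← LinearMap.toMatrix'_mulVec, Matrix.mulVec_mulVec, Matrix.mul_assoc,
        show M g⁻¹ * LinearMap.toMatrix' (ρ g) = 1 by rw [← M1, ← inv_mul_cancel g, Mm],
        Matrix.mul_one, ← Matrix.mulVec_mulVec, hx', Matrix.mulVec_zero]⟩
    rcases eq_bot_or_eq_top K with e | e
    · have : E *ᵥ c ∈ K.toSubmodule := hv
      rw [e] at this
      exact absurd this v0
    · refine Matrix.toLin'.injective (LinearMap.ext fun x => ?_)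
      have : x ∈ K.toSubmodule := by rw [e]; trivial
      rw [map_zero]; exact this
  have s : ∀ i j, ∑ g, M g i i * M g j j = ∑ g, M g i j * M g j i := fun i j => by
    let A := ∑ g, (M g)ᵀ * Matrix.single i j (1 : ℂ) * M g
    have inv : ∀ k, (M k)ᵀ * A * M k = A := fun k => by
      rw [Finset.mul_sum, Finset.sum_mul]
      refine Fintype.sum_equiv (Equiv.mulRight k) _ _ fun g => ?_
      simp [Mm, Matrix.mul_assoc]
    have en : ∀ k l, A k l = ∑ g, M g i k * M g j l := fun k l => by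
      simp [A, Matrix.sum_apply, Matrix.mul_apply, Matrix.single, ite_and]
    have := z (A - Aᵀ) (by simp) fun k => by
      rw [Matrix.mul_sub, Matrix.sub_mul, inv]
      congr 1
      rw [← Matrix.transpose_transpose (M k), ← Matrix.transpose_mul, ← Matrix.transpose_mul,
        Matrix.transpose_transpose, ← Matrix.mul_assoc, inv]
    rw [← en, ← en]
    exact sub_eq_zero.1 (congrFun (congrFun this i) j)
  have : ∑ g, ρ.character g ^ 2 = ∑ g, ρ.character (g ^ 2) := by
    simp only [tr, sq, Mm, Finset.sum_mul_sum, Matrix.mul_apply]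
    rw [Finset.sum_comm, Finset.sum_comm (s := (Finset.univ : Finset G))]
    refine Finset.sum_congr rfl fun i _ => ?_
    rw [Finset.sum_comm, Finset.sum_comm (s := (Finset.univ : Finset G))]
    exact Finset.sum_congr rfl fun j _ => s i j
  have e4 : (Nat.card G : ℂ) * 1 = Nat.card G * f := by rw [← e2, ← this, mul_one]; exact e1.symm
  exact_mod_cast (mul_left_cancel₀ card_ne_zero_complex e4).symm

theorem fix_nat (χ : IrrCharacter G) (ι : H →* G) :
    ∃ n : ℕ, ∑ a, χ.1 (ι a) = Nat.card H * n := by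
  obtain ⟨n, hn⟩ := char_classInner_nat (char_comp (irr_isCharacter χ.2) ι) char_one
  refine ⟨n, ?_⟩
  rw [classInner, inv_mul_eq_iff_eq_mul₀ card_ne_zero_complex] at hn
  simpa using hn

variable {p : ℕ} [hp : Fact p.Prime] {x : G}

theorem real_fs (h : DefOne p x) (he : Nat.card h.H + 1 = p) {χ : IrrCharacter G}
    (hc : cc χ = χ) {s : ℤ} (hs : s % 2 = 1)
    (hv : ∀ i : ZMod p, i ≠ 0 → ∀ v ∈ h.V, χ.1 (xp x i * v) = s) : fsI χ = 1 := by
  classical
  let P := (zpowers x).subgroupOf (Nx x)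
  have le : zpowers x ≤ Nx x := le_normalizer
  have cP : Nat.card P = p := by
    rw [Nat.card_congr (subgroupOfEquivOfLe le).toEquiv, h.card_zpowers]
  have iP : P.index = Nat.card h.V * Nat.card h.H := by
    have := P.card_mul_index
    rw [cP, h.card_Nx, h.card_Cx, mul_assoc] at this
    exact Nat.eq_of_mul_eq_mul_left hp.out.pos this
  have co : (Nat.card P).Coprime P.index := by
    rw [cP, iP]
    refine Nat.Coprime.mul_right ((Nat.Prime.coprime_iff_not_dvd hp.out).2 h.not_dvd_card_V) ?_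
    exact (congrArg (Nat.Coprime · _) he).mp (by simp)
  obtain ⟨K, hK⟩ := exists_right_complement'_of_coprime co
  have cK : Nat.card K = Nat.card h.V * Nat.card h.H := by rw [← iP, hK.symm.index_eq_card]
  have KV : ∀ k : K, ((k : Nx x) : G) ∈ Cx x → ((k : Nx x) : G) ∈ h.V := fun k hk =>
    h.mem_V'.2 ⟨hk, fun c => by
      rw [orderOf_coe, orderOf_coe] at c
      have := c.trans (orderOf_dvd_natCard k)
      rw [cK, ← iP] at this
      exact (Nat.Prime.coprime_iff_not_dvd hp.out).1 (cP ▸ co) this⟩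
  have VK : ∀ v (hv : v ∈ h.V), (⟨v, Cx_le_Nx (h.V_le hv)⟩ : Nx x) ∈ K := fun v hv => by
    obtain ⟨⟨d, k⟩, e⟩ := hK.2 ⟨v, Cx_le_Nx (h.V_le hv)⟩
    obtain ⟨i, hi⟩ := h.mem_zpowers_iff.1 d.2
    have e' : xp x i * ((k : Nx x) : G) = v := hi ▸ congrArg Subtype.val e
    have kc := KV k (by
      rw [← inv_mul_eq_iff_eq_mul.2 e'.symm]; exact mul_mem (inv_mem (xp_mem_Cx i)) (h.V_le hv))
    have := h.kap_xp_mul i kc
    rw [e', (h.mem_V.1 hv).2] at this
    rw [← this, xp_zero, one_mul] at e'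
    exact (Subtype.ext e' : (k : Nx x) = ⟨v, _⟩) ▸ k.2
  obtain ⟨a, ha⟩ := fix_nat χ (Cx x).subtype
  obtain ⟨b, hb⟩ := fix_nat χ (Nx x).subtype
  obtain ⟨k, hk⟩ := fix_nat χ ((Nx x).subtype.comp K.subtype)
  have s1 : ∀ v ∈ h.V, ∑ i : ZMod p, χ.1 (xp x i * v) = χ.1 v + (p - 1) * s := fun v hv' => by
    rw [sum_xp_const fun i hi => hv i hi v hv', xp_zero, one_mul]
  have eC : ∑ g : Cx x, χ.1 g = ∑ v : h.V, (χ.1 v + (p - 1) * s) := by
    rw [h.sum_Cx, Finset.sum_comm]
    exact Finset.sum_congr rfl fun v _ => s1 v v.2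
  have eN : ∑ g : Nx x, χ.1 g = ∑ k : K, ∑ i : ZMod p, χ.1 (xp x i * ((k : Nx x) : G)) := by
    rw [← hK.sum_comp fun g : Nx x => χ.1 g, Fintype.sum_prod_type, Finset.sum_comm]
    refine Finset.sum_congr rfl fun k _ => ?_
    rw [← sum_zpowers h fun g => χ.1 (g * ((k : Nx x) : G))]
    exact Fintype.sum_equiv (subgroupOfEquivOfLe le).toEquiv _ _ fun _ => rfl
  have s2 : ∀ k : K, ∑ i : ZMod p, χ.1 (xp x i * ((k : Nx x) : G)) = p * χ.1 ((k : Nx x) : G) +
      if ((k : Nx x) : G) ∈ h.V then (p - 1) * (s - χ.1 ((k : Nx x) : G)) else 0 := fun k => by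
    split_ifs with c
    · rw [s1 _ c]; ring
    · rw [add_zero, ← sum_coset h χ k.1.2 fun e => c (KV k e),
        sum_zpowers h fun g => χ.1 (((k : Nx x) : G) * g)]
      exact Finset.sum_congr rfl fun i _ => val_conj χ (isConj_iff.2 ⟨xp x i, by group⟩)
  have s3 : (∑ k : K, if ((k : Nx x) : G) ∈ h.V then (p - 1) * (s - χ.1 ((k : Nx x) : G)) else 0) =
      ∑ v : h.V, ((p : ℂ) - 1) * (s - χ.1 v) := by
    rw [← Finset.sum_filter]
    exact (Finset.sum_bij (fun (v : h.V) _ => (⟨_, VK v v.2⟩ : K)) (fun v _ => by simp)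
      (fun v _ w _ e => Subtype.ext (congrArg (fun z : K => ((z : Nx x) : G)) e))
      (fun k c => ⟨⟨_, (Finset.mem_filter.1 c).2⟩, Finset.mem_univ _, rfl⟩) fun _ _ => rfl).symm
  have rel : (b : ℂ) = k + s - a := by
    have hb' : ∑ g : Nx x, χ.1 g = _ := hb
    have ha' : ∑ g : Cx x, χ.1 g = _ := ha
    have hk' : ∑ k : K, χ.1 ((k : Nx x) : G) = _ := hk
    rw [eN, Finset.sum_congr rfl fun k _ => s2 k, Finset.sum_add_distrib, s3, ← Finset.mul_sum,
      hk', ← Finset.mul_sum, Finset.sum_sub_distrib, h.card_Nx, h.card_Cx, cK] at hb'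
    rw [eC, Finset.sum_add_distrib, h.card_Cx] at ha'
    simp only [Finset.sum_const, Finset.card_univ, ← Nat.card_eq_fintype_card, nsmul_eq_mul]
      at ha' hb'
    have e : (Nat.card h.H : ℂ) = p - 1 := by
      rw [eq_sub_iff_add_eq]; exact_mod_cast he
    have n0 : (p : ℂ) * Nat.card h.V * Nat.card h.H ≠ 0 := mul_ne_zero (mul_ne_zero
      (Nat.cast_ne_zero.2 hp.out.ne_zero) card_ne_zero_complex) card_ne_zero_complex
    refine mul_left_cancel₀ n0 ?_
    push_cast at ha' hb'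
    rw [e] at hb' ⊢
    linear_combination (1 - p) * ha' - hb'
  have rel' : (b : ℤ) = k + s - a := by exact_mod_cast rel
  by_cases c1 : (a : ℤ) % 2 = 1
  · exact fs_fix hc _ (d := a) ha c1
  by_cases c2 : (b : ℤ) % 2 = 1
  · exact fs_fix hc _ (d := b) hb c2
  · exact fs_fix hc _ (d := k) hk (by omega)

theorem sum_sqrt (h : DefOne p x) (h2 : p ≠ 2) [Fintype h.V] :
    ∑ v : h.V, Nat.card {g : G // g ^ 2 = x * v} = Nat.card h.V := by
  have t : (2 : ZMod p) ≠ 0 := fun e => h2 ((Nat.prime_dvd_prime_iff_eq hp.out Nat.prime_two).1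
    ((ZMod.natCast_eq_zero_iff 2 p).1 e))
  have q : ∀ (i : ZMod p) (w : G), w ∈ h.V → (xp x i * w) ^ 2 = xp x (2 * i) * w ^ 2 :=
    fun i w hw => by rw [(h.commute_xp_V _ hw).mul_pow, xp_pow h.pow_p]; rfl
  rw [← Nat.card_sigma]
  refine (Nat.card_congr (Equiv.ofBijective (fun w : h.V => (⟨w ^ 2, xp x 2⁻¹ * w, by
    rw [q _ _ w.2, mul_inv_cancel₀ t, xp_one]; rfl⟩ : Σ v : h.V, {g : G // g ^ 2 = x * v}))
    ⟨fun a b e => Subtype.ext (mul_left_cancel (congrArg (fun z => z.2.1) e)), ?_⟩)).symm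
  rintro ⟨v, g, e⟩
  have c : Commute g (xp x (orderOf (v : G) * 1 : ZMod p)) := by
    have : Commute g ((xp x (1 : ZMod p) * v) ^ orderOf (v : G)) := by
      rw [xp_one, ← e]; exact ((Commute.refl g).pow_right _).pow_right _
    rwa [(h.commute_xp_V _ v.2).mul_pow, pow_orderOf_eq_one, mul_one, xp_pow h.pow_p] at this
  have gc := mem_Cx_of_xp h (mul_ne_zero (by
    rw [Ne, ZMod.natCast_eq_zero_iff]; exact (h.mem_V'.1 v.2).2) one_ne_zero) c
  obtain ⟨w, hw, e2⟩ := h.exists_decomp gc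
  generalize h.kap g = i at e2
  subst e2
  have e3 := congrArg h.kap e
  rw [q _ _ hw, h.kap_xp_mul _ (pow_mem hw 2), h.kap_mul self_mem_Cx (h.V_le v.2), h.kap_self,
    (h.mem_V.1 v.2).2, add_zero] at e3
  obtain rfl : i = 2⁻¹ := eq_inv_of_mul_eq_one_right e3
  have e4 := e
  rw [q _ _ hw, e3, xp_one] at e4
  obtain rfl : ⟨w, hw⟩ ^ 2 = v := Subtype.ext (mul_left_cancel e4)
  exact ⟨⟨w, hw⟩, rfl⟩

open Classical in
/-- the real stem: the signs of the real characters of the block cancel -/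
theorem rs [IsSimpleGroup G] (h : DefOne p x) (h2 : p ≠ 2) {n : ℕ} (hn : n + 1 = p) (he : Nat.card h.H = n)
    (F : Full h n) : ∑ j, (if cc (F.c j) = F.c j then F.s j else 0) = 0 := by
  have a := congrArg (Nat.cast (R := ℂ)) (sum_sqrt h h2)
  rw [Nat.cast_sum, Finset.sum_congr rfl fun v _ => card_sqrt _, Finset.sum_comm] at a
  have b : ∑ χ : IrrCharacter G, fsI χ * mu h χ = 1 := by
    simp only [mu, ← mul_div_assoc, ← Finset.sum_div, Finset.mul_sum]
    rw [div_eq_one_iff_eq card_ne_zero_complex]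
    convert a
  have o : fsI (one1 G) = 1 := fs_fix (Subtype.ext (funext fun g => by rw [cc_apply]; rfl))
    (MonoidHom.id G) (d := 1) (by simp) rfl
  rw [F.sum_irr _ fun χ a b => by rw [Full.mu_other F a b, mul_zero],
    mu_const h (χ := one1 G) (a := 1) fun _ _ => rfl, o] at b
  simp only [mu_const h fun v => F.val_mul _] at b
  have c : ∑ j, fsI (F.c j) * F.s j = 0 := by
    have : ((∑ j, fsI (F.c j) * F.s j : ℤ) : ℂ) = 0 := by
      push_cast at b ⊢; linear_combination b
    exact_mod_cast this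
  refine (Finset.sum_congr rfl fun j _ => ?_).trans c
  split_ifs with e
  · rw [real_fs h (he ▸ hn) e (by rcases F.s_eq j with c | c <;> rw [c] <;> rfl) (F.val j), one_mul]
  · rw [fsI_eq_zero e, zero_mul]

end JT
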